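import Cfsg.Agent.Lib.Golay.M23Triples.Check

/-!
Kernel check of all the witnesses.
-/

set_option autoImplicit false
set_option maxRecDepth 16384

namespace CfsgLib.Golay.M23Triples

theorem wits_ok : wits.all witOk = true := by decide +kernel

theorem wits_cover : ∀ p ∈ [2, 3, 5, 7, 11, 23], ∀ q ∈ [2, 3, 5, 7, 11, 23], ∀ r ∈ [2, 3, 5, 7, 11, 23],
    p ≤ q → q ≤ r → ¬ (p = 2 ∧ q = 2) →
    ¬ ((p = 2 ∧ q = 3) ∨ (p = 2 ∧ q = 5 ∧ r = 5) ∨ (p = 2 ∧ q = 5 ∧ r = 7) ∨ (p = 3 ∧ q = 3 ∧ r ≤ 7)) →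
    wits.any (fun w => w.p == p && w.q == q && w.r == r) = true := by decide +kernel

end CfsgLib.Golay.M23Triples
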