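import Cfsg.Agent.Lib.Golay.M23Triples.Data
import Cfsg.Agent.Lib.Golay.M24Sub
import Cfsg.Agent.Lib.Fusion.PermCert

/-!
Soundness of the witnesses for generation of the point stabilizer by elements of given prime orders.
-/

set_option autoImplicit false

namespace CfsgLib.Golay.M23Triples

open Cfsg CfsgLib.Golay CfsgLib.Fusion.PermCert

/-- Powers of a list. -/
def powL (L : List ℕ) : ℕ → List ℕ
  | 0 => List.range 24
  | n + 1 => compL (powL L n) L

theorem powL_spec {L : List ℕ} (hL : validL 24 L = true) :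
    ∀ n, validL 24 (powL L n) = true ∧ permOf ptEquiv (powL L n) = permOf ptEquiv L ^ n
  | 0 => ⟨show validL 24 (List.range 24) = true by decide, by rw [powL, pow_zero, permOf_id ptEquiv (by decide)]⟩
  | n + 1 => by
    obtain ⟨h1, h2⟩ := powL_spec hL n
    refine ⟨validL_compL h1 hL, ?_⟩
    rw [powL, permOf_comp ptEquiv h1 hL (validL_compL h1 hL), h2, pow_succ]

/-- The list has exact order `p` (for `p` prime). -/
def ordTest (L : List ℕ) (p : ℕ) : Bool :=
  validL 24 L && decide (powL L p = List.range 24) && decide (L ≠ List.range 24)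

theorem ordTest_spec {L : List ℕ} {p : ℕ} (hp : p.Prime) (h : ordTest L p = true) :
    orderOf (permOf ptEquiv L) = p := by
  simp only [ordTest, Bool.and_eq_true, decide_eq_true_eq] at h
  obtain ⟨⟨hv, hp1⟩, hne⟩ := h
  haveI := Fact.mk hp
  refine orderOf_eq_prime ?_ fun h1 => hne ?_
  · rw [← (powL_spec hv p).2, hp1, permOf_id ptEquiv (by decide)]
  · exact eq_of_pOf_eq hv (by decide) (h1.trans (permOf_id ptEquiv (by decide)).symm)

/-- The check of a witness. -/
def witOk (w : Wit) : Bool :=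
  subTest [0] 0 w.x && subTest [0] 0 w.y && ordTest w.x w.p && ordTest w.y w.q &&
    ordTest (compL w.x w.y) w.r && slpOk 24 [w.x, w.y] w.steps &&
      m23ChainGens.all fun g => ([w.x, w.y] ++ w.steps.map (·.1)).contains g

theorem stabOne_le {M : Subgroup (Equiv.Perm GolayPt)}
    (h : ∀ L ∈ m23ChainGens, permOf ptEquiv L ∈ M) : stabOne ≤ M :=
  chain_le ptEquiv M24 M (chainCheck_ok m23Chain_check) m23Chain_reps m23Chain_cover
    (chainCheck_reps _ _ m23Chain_check h)

theorem witOk_spec {w : Wit} (h : witOk w = true) (hp : w.p.Prime) (hq : w.q.Prime) (hr : w.r.Prime) :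
    ∃ x y : ↥stabOne, orderOf x = w.p ∧ orderOf y = w.q ∧ orderOf (x * y) = w.r ∧
      Subgroup.closure {x, y} = ⊤ := by
  simp only [witOk, Bool.and_eq_true, List.all_eq_true, List.contains_iff_mem] at h
  obtain ⟨⟨⟨⟨⟨⟨hx, hy⟩, ox⟩, oy⟩, oxy⟩, hs⟩, hg⟩ := h
  have mem : ∀ {L}, subTest [0] 0 L = true → permOf ptEquiv L ∈ stabOne := fun hL => by
    obtain ⟨-, hm, hf, -⟩ := subTest_spec hL
    exact (fix_nums_singleton (by omega)).2 ⟨hm, hf 0 (by simp)⟩
  have vx := (subTest_spec hx).1
  have vy := (subTest_spec hy).1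
  have hxy : permOf ptEquiv (compL w.x w.y) = permOf ptEquiv w.x * permOf ptEquiv w.y :=
    permOf_comp ptEquiv vx vy (validL_compL vx vy)
  let X : ↥stabOne := ⟨_, mem hx⟩
  let Y : ↥stabOne := ⟨_, mem hy⟩
  refine ⟨X, Y, ?_, ?_, ?_, ?_⟩
  · rw [← Subgroup.orderOf_coe]; exact ordTest_spec hp ox
  · rw [← Subgroup.orderOf_coe]; exact ordTest_spec hq oy
  · rw [← Subgroup.orderOf_coe, Subgroup.coe_mul]
    show orderOf (permOf ptEquiv w.x * permOf ptEquiv w.y) = w.r
    rw [← hxy]; exact ordTest_spec hr oxy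
  · refine (Subgroup.eq_top_iff' _).2 fun g => ?_
    have hle : stabOne ≤ (Subgroup.closure {X, Y}).map stabOne.subtype := by
      refine stabOne_le fun L hL => (slp_mem ptEquiv _ hs ?_ L (hg L hL)).2
      intro K hK
      simp only [List.mem_cons, List.not_mem_nil, or_false] at hK
      rcases hK with rfl | rfl
      · exact ⟨X, Subgroup.subset_closure (by simp), rfl⟩
      · exact ⟨Y, Subgroup.subset_closure (by simp), rfl⟩
    obtain ⟨k, hk, hkg⟩ := hle g.2
    rwa [← Subtype.ext hkg]

end CfsgLib.Golay.M23Triples
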