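import Mathlib

/-!
# Scott's bound for a pair of permutations with two common orbits, one of them a point

If `x` and `y` fix `a` and generate a group transitive on the other points, then the numbers of
orbits of `x`, `y` and `x * y` add up to at most `card α + 4`.
-/

set_option autoImplicit false

namespace CfsgLib.Golay.M23Triples

open Module

variable {α : Type*} [Fintype α] [DecidableEq α]

/-- Precomposition with a permutation. -/
noncomputable def preComp (g : Equiv.Perm α) : (α → ℚ) →ₗ[ℚ] (α → ℚ) := LinearMap.funLeft ℚ ℚ g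

/-- Precomposition subtracted from the identity. -/
noncomputable def diffMap (g : Equiv.Perm α) : (α → ℚ) →ₗ[ℚ] (α → ℚ) := LinearMap.id - preComp g

omit [Fintype α] [DecidableEq α] in
theorem preComp_apply (g : Equiv.Perm α) (v : α → ℚ) (i : α) : preComp g v i = v (g i) := rfl

omit [Fintype α] [DecidableEq α] in
theorem diffMap_apply (g : Equiv.Perm α) (v : α → ℚ) (i : α) : diffMap g v i = v i - v (g i) := rfl

omit [Fintype α] [DecidableEq α] in
theorem diffMap_mul (g h : Equiv.Perm α) (v : α → ℚ) :
    diffMap (g * h) v = diffMap g v + diffMap h (preComp g v) := by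
  ext i
  simp only [Pi.add_apply, diffMap_apply, preComp_apply, Equiv.Perm.mul_apply]
  ring

/-- The number of orbits of the cyclic group generated by `g`. -/
noncomputable def orbCount (g : Equiv.Perm α) : ℕ :=
  Nat.card (MulAction.orbitRel.Quotient (Subgroup.zpowers g) α)

theorem orbCount_le (g : Equiv.Perm α) : orbCount g ≤ finrank ℚ (LinearMap.ker (diffMap g)) := by
  classical
  let π : α → MulAction.orbitRel.Quotient (Subgroup.zpowers g) α := Quotient.mk''
  have hπ : ∀ i, π (g i) = π i := fun i =>
    Quotient.sound ⟨⟨g, Subgroup.mem_zpowers g⟩, rfl⟩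
  let Φ : (MulAction.orbitRel.Quotient (Subgroup.zpowers g) α → ℚ) →ₗ[ℚ] LinearMap.ker (diffMap g) :=
    (LinearMap.funLeft ℚ ℚ π).codRestrict _ fun f => by
      rw [LinearMap.mem_ker]
      ext i
      simp only [diffMap_apply, LinearMap.funLeft_apply, hπ, sub_self, Pi.zero_apply]
  haveI := Fintype.ofFinite (MulAction.orbitRel.Quotient (Subgroup.zpowers g) α)
  have hinj : Function.Injective Φ := by
    intro f f' h
    funext q
    obtain ⟨i, rfl⟩ : ∃ i, π i = q := Quotient.exists_rep q
    exact congrFun (congrArg Subtype.val h) i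
  have := LinearMap.finrank_le_finrank_of_injective hinj
  rwa [Module.finrank_fintype_fun_eq_card, ← Nat.card_eq_fintype_card] at this

theorem orbCount_mul_prime (g : Equiv.Perm α) {p : ℕ} (hp : p.Prime) (hg : orderOf g = p) :
    orbCount g * p = Fintype.card α + (p - 1) * (Finset.univ.filter fun i => g i = i).card := by
  classical
  haveI := Fintype.ofFinite (MulAction.orbitRel.Quotient (Subgroup.zpowers g) α)
  haveI : ∀ h : Subgroup.zpowers g, Fintype (MulAction.fixedBy α h) := fun h => Fintype.ofFinite _
  have hcard : Fintype.card (Subgroup.zpowers g) = p := by rw [Fintype.card_zpowers, hg]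
  have hb := MulAction.sum_card_fixedBy_eq_card_orbits_mul_card_group (Subgroup.zpowers g) α
  rw [hcard] at hb
  have hval : ∀ h : Subgroup.zpowers g, h ≠ 1 →
      Fintype.card (MulAction.fixedBy α h) = (Finset.univ.filter fun i => g i = i).card := by
    intro h hne
    rw [← Nat.card_eq_fintype_card, ← Set.ncard_coe_finset]
    show Set.ncard _ = Set.ncard _
    congr 1
    ext i
    simp only [MulAction.mem_fixedBy, Finset.coe_filter, Finset.mem_univ, true_and, Set.mem_setOf_eq]
    have hgen : g ∈ Subgroup.zpowers (h : Equiv.Perm α) := by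
      haveI := Fact.mk hp
      obtain ⟨k, hk⟩ := Subgroup.mem_zpowers_iff.1 h.2
      have ho : orderOf (h : Equiv.Perm α) = p := by
        refine orderOf_eq_prime ?_ fun h1 => hne (Subtype.ext h1)
        rw [← hk, ← zpow_natCast, ← zpow_mul, mul_comm, zpow_mul, zpow_natCast, ← hg, pow_orderOf_eq_one, one_zpow]
      have hle : Subgroup.zpowers (h : Equiv.Perm α) ≤ Subgroup.zpowers g :=
        Subgroup.zpowers_le.2 h.2
      rw [Subgroup.eq_of_le_of_card_ge hle (by rw [Nat.card_zpowers, Nat.card_zpowers, hg, ho])]
      exact Subgroup.mem_zpowers g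
    constructor
    · intro hi
      have : g ∈ MulAction.stabilizer (Equiv.Perm α) i :=
        (Subgroup.zpowers_le.2 (show (h : Equiv.Perm α) ∈ MulAction.stabilizer (Equiv.Perm α) i from hi)) hgen
      exact this
    · intro hi
      exact (Subgroup.zpowers_le.2 (show g ∈ MulAction.stabilizer (Equiv.Perm α) i from hi)) h.2
  rw [← Finset.add_sum_erase _ _ (Finset.mem_univ (1 : Subgroup.zpowers g)),
    Finset.sum_congr rfl (fun h hh => hval h (Finset.ne_of_mem_erase hh)), Finset.sum_const,
    Finset.card_erase_of_mem (Finset.mem_univ _), Finset.card_univ, hcard, smul_eq_mul] at hb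
  have h1 : Fintype.card (MulAction.fixedBy α (1 : Subgroup.zpowers g)) = Fintype.card α :=
    Fintype.card_congr (Equiv.subtypeUnivEquiv fun i => by simp)
  rw [h1] at hb
  rw [orbCount, Nat.card_eq_fintype_card]
  exact hb.symm

theorem scott_bound (x y : Equiv.Perm α) (a b : α) (hab : b ≠ a)
    (htr : ∀ j, j ≠ a → ∃ g ∈ Subgroup.closure {x, y}, g b = j) :
    orbCount x + orbCount y + orbCount (x * y) ≤ Fintype.card α + 4 := by
  classical
  set n := Fintype.card α with hn
  have hV : finrank ℚ (α → ℚ) = n := Module.finrank_fintype_fun_eq_card ℚ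
  let A := LinearMap.range (diffMap x)
  let B := LinearMap.range (diffMap y)
  let C := LinearMap.range (diffMap (x * y))
  -- the functions invariant under the generated group
  let ev : (α → ℚ) →ₗ[ℚ] ℚ × ℚ := LinearMap.prod (LinearMap.proj a) (LinearMap.proj b)
  let Lc : (α → ℚ) →ₗ[ℚ] ℚ × ℚ :=
    LinearMap.prod (LinearMap.proj a) (∑ i, (LinearMap.proj i : (α → ℚ) →ₗ[ℚ] ℚ))
  have hQ : finrank ℚ (ℚ × ℚ) = 2 := by simp
  -- the subgroup of permutations whose differences lie in the sum of the first two ranges
  let S : Subgroup (Equiv.Perm α) :=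
    { carrier := {g | LinearMap.range (diffMap g) ≤ A ⊔ B}
      one_mem' := by
        rintro v ⟨w, rfl⟩
        have : diffMap (1 : Equiv.Perm α) w = 0 := by ext i; simp [diffMap_apply]
        rw [this]; exact zero_mem _
      mul_mem' := fun {g h} hg hh => by
        rintro v ⟨w, rfl⟩
        rw [diffMap_mul]
        exact add_mem (hg ⟨w, rfl⟩) (hh ⟨_, rfl⟩)
      inv_mem' := fun {g} hg => by
        rintro v ⟨w, rfl⟩
        have : diffMap g⁻¹ w = -diffMap g (preComp g⁻¹ w) := by
          ext i
          simp [diffMap_apply, preComp_apply]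
        rw [this]; exact neg_mem (hg ⟨_, rfl⟩) }
  have hS : Subgroup.closure {x, y} ≤ S := by
    rw [Subgroup.closure_le]
    rintro g (rfl | rfl)
    · show LinearMap.range (diffMap _) ≤ A ⊔ B
      exact (le_sup_left : A ≤ A ⊔ B)
    · show LinearMap.range (diffMap _) ≤ A ⊔ B
      exact (le_sup_right : B ≤ A ⊔ B)
  have hLc : LinearMap.ker Lc ≤ A ⊔ B := by
    intro v hv
    rw [LinearMap.mem_ker] at hv
    have hva : v a = 0 := congrArg Prod.fst hv
    have hvs : ∑ i, v i = 0 := by
      have := congrArg Prod.snd hv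
      simpa [Lc, LinearMap.sum_apply] using this
    have hd : v = ∑ j, v j • (Pi.single j (1 : ℚ) - Pi.single b 1 : α → ℚ) := by
      simp only [smul_sub, Finset.sum_sub_distrib, ← Finset.sum_smul, hvs, zero_smul, sub_zero]
      ext i
      simp [Finset.sum_apply, Pi.single_apply]
    rw [hd]
    refine Submodule.sum_mem _ fun j _ => ?_
    by_cases hja : j = a
    · rw [hja, hva, zero_smul]; exact zero_mem _
    · refine Submodule.smul_mem _ _ ?_
      obtain ⟨g, hg, rfl⟩ := htr j hja
      have : diffMap g (Pi.single (g b) (1 : ℚ)) = Pi.single (g b) (1 : ℚ) - Pi.single b 1 := by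
        ext i
        simp [diffMap_apply, Pi.single_apply]
      rw [← this]
      exact hS hg ⟨_, rfl⟩
  have hLk : n ≤ finrank ℚ (LinearMap.ker Lc) + 2 := by
    have h := Lc.finrank_range_add_finrank_ker.trans hV
    have h2 := Submodule.finrank_le (LinearMap.range Lc)
    omega
  -- the relations
  let ψ : (α → ℚ) →ₗ[ℚ] A × B × C :=
    LinearMap.prod (diffMap x).rangeRestrict
      (LinearMap.prod ((diffMap y).rangeRestrict ∘ₗ preComp x) (-(diffMap (x * y)).rangeRestrict))
  let σ : (A × B × C) →ₗ[ℚ] (α → ℚ) :=
    LinearMap.coprod A.subtype (LinearMap.coprod B.subtype C.subtype)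
  have hψσ : LinearMap.range ψ ≤ LinearMap.ker σ := by
    rintro _ ⟨v, rfl⟩
    rw [LinearMap.mem_ker]
    simp only [σ, ψ, LinearMap.coprod_apply, LinearMap.prod_apply, Pi.prod, Submodule.subtype_apply,
      LinearMap.comp_apply, LinearMap.neg_apply, Submodule.coe_neg]
    show diffMap x v + (diffMap y (preComp x v) + -diffMap (x * y) v) = 0
    rw [diffMap_mul]; abel
  have hker : finrank ℚ (LinearMap.ker ψ) ≤ 2 := by
    refine (LinearMap.finrank_le_finrank_of_injective (f := ev ∘ₗ (LinearMap.ker ψ).subtype) ?_).trans hQ.le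
    rintro ⟨v, hv⟩ ⟨w, hw⟩ h
    have hd : ∀ u ∈ LinearMap.ker ψ, ∀ g ∈ Subgroup.closure {x, y}, preComp g u = u := by
      intro u hu g hg
      rw [LinearMap.mem_ker] at hu
      have h1 : diffMap x u = 0 := congrArg Subtype.val (congrArg Prod.fst hu)
      have hx : preComp x u = u := by
        rw [diffMap, LinearMap.sub_apply, LinearMap.id_apply, sub_eq_zero] at h1
        exact h1.symm
      have h2 : diffMap y (preComp x u) = 0 :=
        congrArg Subtype.val (congrArg (fun z => z.2.1) hu)
      rw [hx, diffMap, LinearMap.sub_apply, LinearMap.id_apply, sub_eq_zero] at h2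
      induction hg using Subgroup.closure_induction with
      | mem z hz =>
        rcases hz with rfl | rfl
        exacts [hx, h2.symm]
      | one => rfl
      | mul g k _ _ hg hk => ext i; exact (congrFun hg (k i)).trans (congrFun hk i)
      | inv g _ hg => ext i; simpa [preComp_apply] using (congrFun hg (g⁻¹ i)).symm
    apply Subtype.ext
    ext j
    simp only [LinearMap.comp_apply, Submodule.subtype_apply] at h
    by_cases hj : j = a
    · rw [hj]; exact congrArg Prod.fst h
    · obtain ⟨g, hg, rfl⟩ := htr j hj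
      have e1 := congrFun (hd v hv g hg) b
      have e2 := congrFun (hd w hw g hg) b
      rw [preComp_apply] at e1 e2
      show v (g b) = w (g b)
      rw [e1, e2]; exact congrArg Prod.snd h
  have hσ : LinearMap.ker Lc ≤ LinearMap.range σ := by
    refine hLc.trans (sup_le ?_ ?_)
    · intro v hv; exact ⟨(⟨v, hv⟩, 0, 0), by simp [σ]⟩
    · intro v hv; exact ⟨(0, ⟨v, hv⟩, 0), by simp [σ]⟩
  have h3 : finrank ℚ (A × B × C) = finrank ℚ A + (finrank ℚ B + finrank ℚ C) := by
    rw [Module.finrank_prod, Module.finrank_prod]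
  have f1 := σ.finrank_range_add_finrank_ker
  rw [h3] at f1
  have f2 : finrank ℚ (LinearMap.range ψ) + finrank ℚ (LinearMap.ker ψ) = n :=
    ψ.finrank_range_add_finrank_ker.trans hV
  have f3 := Submodule.finrank_mono hψσ
  have f4 := Submodule.finrank_mono hσ
  have f5 : finrank ℚ A + finrank ℚ (LinearMap.ker (diffMap x)) = n :=
    (diffMap x).finrank_range_add_finrank_ker.trans hV
  have f6 : finrank ℚ B + finrank ℚ (LinearMap.ker (diffMap y)) = n :=
    (diffMap y).finrank_range_add_finrank_ker.trans hV
  have f7 : finrank ℚ C + finrank ℚ (LinearMap.ker (diffMap (x * y))) = n :=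
    (diffMap (x * y)).finrank_range_add_finrank_ker.trans hV
  have f8 := orbCount_le x
  have f9 := orbCount_le y
  have f10 := orbCount_le (x * y)
  omega

end CfsgLib.Golay.M23Triples
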